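import Cfsg.Agent.SporB.Fi23.O.Check0
import Cfsg.Agent.SporB.Fi23.O.Check1

set_option autoImplicit false
set_option maxRecDepth 100000

namespace Cfsg.Agent.CosetEnum.Fi23.O

theorem dok0 : allRange sys.checkDef 0 1024 = true := by decide +kernel

theorem dok1 : allRange sys.checkDef 1024 1024 = true := by decide +kernel

theorem dok2 : allRange sys.checkDef 2048 393 = true := by decide +kernel

def fchunks : List (ℕ × ℕ) := [(128, fv0), (128, fv1), (128, fv2), (128, fv3), (128, fv4), (128, fv5), (128, fv6), (128, fv7), (128, fv8), (128, fv9), (128, fv10), (128, fv11), (128, fv12), (128, fv13), (128, fv14), (128, fv15), (128, fv16), (128, fv17), (128, fv18), (128, fv19), (128, fv20), (128, fv21), (128, fv22), (128, fv23), (128, fv24), (128, fv25), (128, fv26), (128, fv27), (128, fv28), (128, fv29), (128, fv30), (128, fv31), (128, fv32), (128, fv33), (128, fv34), (128, fv35), (128, fv36), (128, fv37), (128, fv38), (128, fv39), (128, fv40), (128, fv41), (128, fv42), (128, fv43), (128, fv44), (128, fv45), (128, fv46), (49, fv47)]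

def rchunks : List (ℕ × ℕ) := [(64, rv0), (64, rv1), (64, rv2), (64, rv3), (64, rv4), (64, rv5), (64, rv6), (64, rv7), (64, rv8), (64, rv9), (64, rv10), (24, rv11)]

theorem factsOK : sys.FactsOK 2441 fchunks := ⟨fok0, fok1, fok2, fok3, fok4, fok5, fok6, fok7, fok8, fok9, fok10, fok11, fok12, fok13, fok14, fok15, fok16, fok17, fok18, fok19, fok20, fok21, fok22, fok23, fok24, fok25, fok26, fok27, fok28, fok29, fok30, fok31, fok32, fok33, fok34, fok35, fok36, fok37, fok38, fok39, fok40, fok41, fok42, fok43, fok44, fok45, fok46, fok47, trivial⟩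

theorem rowsOK : sys.RowsOK 728 8506 0 rchunks := ⟨rok0, rok1, rok2, rok3, rok4, rok5, rok6, rok7, rok8, rok9, rok10, rok11, trivial⟩

theorem cert : Cert sys 728 2441 8506 :=
  Cert.of_chunks [1024,1024,393] fchunks rchunks (by decide) ⟨dok0, dok1, dok2, trivial⟩ (by decide +kernel) factsOK (by decide +kernel) rowsOK (by decide +kernel)

theorem rules_ok : sys.rules.all (fun R => R.check sys rels subs) = true := by decide +kernel

theorem inv_ok : allRange (fun l => Nat.beq (sys.inv l) l) 0 (sys.nl + 1) = true := by decide +kernel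

end Cfsg.Agent.CosetEnum.Fi23.O
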